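import Groth.Agent.H28.CotNine.Basic
import Mathlib.Tactic.Abel

/-!
# The nine-term sequence from cochain-level exactness

For `A → B → C`, presentations `P` of `B/A`, `P'` of `C/A`, `P''` of `C/B` and morphisms
`g : P → P'`, `h : P' → P''`: if the sequences of cochain groups
`0 → Hom(Lᵢ(P''), M) → Hom(Lᵢ(P'), M) → Hom(Lᵢ(P), M)` are exact for `i = 0, 1, 2` and right exact
for `i = 0, 1`, the nine-term sequence of the `Tⁱ` is exact.
-/

set_option autoImplicit false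
universe u w m
open Function TensorProduct CotT

noncomputable section

namespace Groth.Agent.H28.CotNine

section Nine

variable {A B C : Type u} [CommRing A] [CommRing B] [CommRing C] [Algebra A B] [Algebra B C]
  [Algebra A C] [IsScalarTower A B C]
variable {ι σ ι' σ' ι'' σ'' : Type w}
variable {P : Algebra.Presentation A B ι σ} {P' : Algebra.Presentation A C ι' σ'}
  {P'' : Algebra.Presentation B C ι'' σ''}
variable (g : PresHom P P') (h : PresHom P' P'')
variable (M : Type m) [AddCommGroup M] [Module C M] [Module B M] [IsScalarTower B C M]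

/-- The cochain-level hypotheses. -/
structure CochainExact : Prop where
  inj0 : Injective (h.pull0 M)
  inj1 : Injective (h.pull1 M)
  inj2 : Injective (h.pull2 M)
  zero0 : ∀ χ, g.pull0 M (h.pull0 M χ) = 0
  zero1 : ∀ χ, g.pull1 M (h.pull1 M χ) = 0
  zero2 : ∀ χ, g.pull2 M (h.pull2 M χ) = 0
  ex0 : ∀ ψ, g.pull0 M ψ = 0 → ∃ χ, h.pull0 M χ = ψ
  ex1 : ∀ ψ, g.pull1 M ψ = 0 → ∃ χ, h.pull1 M χ = ψ
  ex2 : ∀ ψ, g.pull2 M ψ = 0 → ∃ χ, h.pull2 M χ = ψ
  surj0 : Surjective (g.pull0 M)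
  surj1 : Surjective (g.pull1 M)

variable {g h M}
variable (H : CochainExact g h M)

theorem d2d1 {A B : Type u} [CommRing A] [CommRing B] [Algebra A B] {ι σ : Type w}
    (P : Algebra.Presentation A B ι σ) (M : Type m) [AddCommGroup M] [Module B M]
    (ψ : L0 P →ₗ[B] M) : d2Star P M (d1Star P M ψ) = 0 :=
  LinearMap.congr_fun (d2Star_comp_d1Star P M) ψ

include H

theorem T0_inj : Injective (h.T0pull M) := by
  intro ψ ψ' e
  apply Subtype.ext
  apply H.inj0
  exact congrArg Subtype.val e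

theorem T0_exact : Function.Exact (h.T0pull M) (g.T0pull M) := by
  intro ψ
  constructor
  · intro hψ
    have h0 : g.pull0 M (ψ : L0 P' →ₗ[C] M) = 0 := congrArg Subtype.val hψ
    obtain ⟨χ, hχ⟩ := H.ex0 _ h0
    have hmem : χ ∈ LinearMap.ker (d1Star P'' M) := by
      rw [LinearMap.mem_ker]
      apply H.inj1
      rw [PresHom.pull1_d1Star, hχ, map_zero]
      exact LinearMap.mem_ker.1 ψ.2
    exact ⟨⟨χ, hmem⟩, Subtype.ext hχ⟩
  · rintro ⟨χ, rfl⟩
    apply Subtype.ext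
    exact H.zero0 _

theorem T1_exact : Function.Exact (h.T1pull M) (g.T1pull M) := by
  intro x
  obtain ⟨c, rfl⟩ := Submodule.Quotient.mk_surjective _ x
  constructor
  · intro hx
    rw [T1pull_mk] at hx
    have h' : g.cocycles1Pull M c ∈ coboundaries1 P M := (Submodule.Quotient.mk_eq_zero _).1 hx
    obtain ⟨ψN, hψN⟩ := LinearMap.mem_range.1 (Submodule.mem_comap.1 h')
    have hψN' : d1Star P M ψN = g.pull1 M (c : L1 P' →ₗ[C] M) := hψN
    obtain ⟨χ, rfl⟩ := H.surj0 ψN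
    have hy : g.pull1 M ((c : L1 P' →ₗ[C] M) - d1Star P' M χ) = 0 := by
      rw [map_sub, PresHom.pull1_d1Star, hψN', sub_self]
    obtain ⟨k, hk⟩ := H.ex1 _ hy
    have hkmem : k ∈ cocycles1 P'' M := by
      rw [LinearMap.mem_ker]
      apply H.inj2
      rw [PresHom.pull2_d2Star, hk, map_zero, map_sub, d2d1, sub_zero]
      exact LinearMap.mem_ker.1 c.2
    refine ⟨Submodule.Quotient.mk ⟨k, hkmem⟩, ?_⟩
    rw [T1pull_mk, Submodule.Quotient.eq]
    refine Submodule.mem_comap.2 (LinearMap.mem_range.2 ⟨-χ, ?_⟩)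
    change d1Star P' M (-χ) = h.pull1 M k - (c : L1 P' →ₗ[C] M)
    rw [hk, map_neg]
    abel
  · rintro ⟨y, hy⟩
    rw [← hy]
    obtain ⟨k, rfl⟩ := Submodule.Quotient.mk_surjective _ y
    rw [T1pull_mk, T1pull_mk]
    have : g.cocycles1Pull M (h.cocycles1Pull M k) = 0 := Subtype.ext (H.zero1 _)
    rw [this]
    exact Submodule.Quotient.mk_zero _

theorem T2_exact : Function.Exact (h.T2pull M) (g.T2pull M) := by
  intro x
  obtain ⟨e, rfl⟩ := Submodule.Quotient.mk_surjective _ x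
  constructor
  · intro hx
    rw [T2pull_mk] at hx
    obtain ⟨cN, hcN⟩ := LinearMap.mem_range.1 ((Submodule.Quotient.mk_eq_zero _).1 hx)
    obtain ⟨y, rfl⟩ := H.surj1 cN
    have hz : g.pull2 M (e - d2Star P' M y) = 0 := by
      rw [map_sub, PresHom.pull2_d2Star, hcN, sub_self]
    obtain ⟨e'', he''⟩ := H.ex2 _ hz
    refine ⟨Submodule.Quotient.mk e'', ?_⟩
    rw [T2pull_mk, Submodule.Quotient.eq]
    refine LinearMap.mem_range.2 ⟨-y, ?_⟩
    rw [he'', map_neg]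
    abel
  · rintro ⟨y, hy⟩
    rw [← hy]
    obtain ⟨e'', rfl⟩ := Submodule.Quotient.mk_surjective _ y
    rw [T2pull_mk, T2pull_mk, H.zero2]
    exact Submodule.Quotient.mk_zero _

/-! ### The first connecting map -/

omit H in
/-- the relation defining `δ₀` -/
def R0 (g : PresHom P P') (h : PresHom P' P'') (M : Type m) [AddCommGroup M] [Module C M]
    [Module B M] [IsScalarTower B C M] (z : T0 P M) (u : T1 P'' M) : Prop :=
  ∃ (y : L0 P' →ₗ[C] M) (k : cocycles1 P'' M), g.pull0 M y = (z : L0 P →ₗ[B] M) ∧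
    h.pull1 M (k : L1 P'' →ₗ[C] M) = d1Star P' M y ∧ u = Submodule.Quotient.mk k

theorem R0_exists (z : T0 P M) : ∃ u, R0 g h M z u := by
  obtain ⟨y, hy⟩ := H.surj0 (z : L0 P →ₗ[B] M)
  have h1 : g.pull1 M (d1Star P' M y) = 0 := by
    rw [PresHom.pull1_d1Star, hy]
    exact LinearMap.mem_ker.1 z.2
  obtain ⟨k, hk⟩ := H.ex1 _ h1
  have hkmem : k ∈ cocycles1 P'' M := by
    rw [LinearMap.mem_ker]
    apply H.inj2
    rw [PresHom.pull2_d2Star, hk, map_zero, d2d1]
  exact ⟨_, y, ⟨k, hkmem⟩, hy, hk, rfl⟩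

theorem R0_unique {z : T0 P M} {u u' : T1 P'' M} (hu : R0 g h M z u) (hu' : R0 g h M z u') :
    u = u' := by
  obtain ⟨y, k, hy, hk, rfl⟩ := hu
  obtain ⟨y', k', hy', hk', rfl⟩ := hu'
  have h0 : g.pull0 M (y - y') = 0 := by rw [map_sub, hy, hy', sub_self]
  obtain ⟨x, hx⟩ := H.ex0 _ h0
  rw [Submodule.Quotient.eq]
  refine Submodule.mem_comap.2 (LinearMap.mem_range.2 ⟨x, ?_⟩)
  change d1Star P'' M x = (k : L1 P'' →ₗ[C] M) - (k' : L1 P'' →ₗ[C] M)
  apply H.inj1
  rw [PresHom.pull1_d1Star, hx, map_sub, map_sub, hk, hk']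

omit H in
theorem R0_add {z z' : T0 P M} {u u' : T1 P'' M} (hu : R0 g h M z u) (hu' : R0 g h M z' u') :
    R0 g h M (z + z') (u + u') := by
  obtain ⟨y, k, hy, hk, rfl⟩ := hu
  obtain ⟨y', k', hy', hk', rfl⟩ := hu'
  refine ⟨y + y', k + k', ?_, ?_, rfl⟩
  · rw [map_add, hy, hy']; rfl
  · change h.pull1 M ((k : L1 P'' →ₗ[C] M) + (k' : L1 P'' →ₗ[C] M)) = _
    rw [map_add, map_add, hk, hk']

/-- the first connecting map -/
def δ₀ : T0 P M →+ T1 P'' M :=
  AddMonoidHom.mk' (fun z => Classical.choose (R0_exists H z)) (fun z z' =>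
    R0_unique H (Classical.choose_spec (R0_exists H (z + z')))
      (R0_add (Classical.choose_spec (R0_exists H z)) (Classical.choose_spec (R0_exists H z'))))

theorem δ₀_spec (z : T0 P M) : R0 g h M z (δ₀ H z) := Classical.choose_spec (R0_exists H z)

theorem exact_T0_δ₀ : Function.Exact (g.T0pull M) (δ₀ H) := by
  intro z
  constructor
  · intro hz
    have hs := δ₀_spec H z
    rw [hz] at hs
    obtain ⟨y, k, hy, hk, hu⟩ := hs
    have hk0 : k ∈ coboundaries1 P'' M := (Submodule.Quotient.mk_eq_zero _).1 hu.symm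
    obtain ⟨x, hx⟩ := LinearMap.mem_range.1 (Submodule.mem_comap.1 hk0)
    have hx' : d1Star P'' M x = (k : L1 P'' →ₗ[C] M) := hx
    have hw : y - h.pull0 M x ∈ LinearMap.ker (d1Star P' M) := by
      rw [LinearMap.mem_ker, map_sub, ← PresHom.pull1_d1Star, hx', hk, sub_self]
    refine ⟨⟨y - h.pull0 M x, hw⟩, ?_⟩
    apply Subtype.ext
    change g.pull0 M (y - h.pull0 M x) = _
    rw [map_sub, H.zero0, sub_zero, hy]
  · rintro ⟨w, rfl⟩
    refine R0_unique H (δ₀_spec H _) ⟨(w : L0 P' →ₗ[C] M), 0, rfl, ?_, ?_⟩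
    · change h.pull1 M 0 = _
      rw [map_zero]
      exact (LinearMap.mem_ker.1 w.2).symm
    · exact (Submodule.Quotient.mk_zero _).symm

theorem exact_δ₀_T1 : Function.Exact (δ₀ H) (h.T1pull M) := by
  intro u
  constructor
  · intro hu
    obtain ⟨k, rfl⟩ := Submodule.Quotient.mk_surjective _ u
    rw [T1pull_mk] at hu
    have h' : h.cocycles1Pull M k ∈ coboundaries1 P' M := (Submodule.Quotient.mk_eq_zero _).1 hu
    obtain ⟨y, hy⟩ := LinearMap.mem_range.1 (Submodule.mem_comap.1 h')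
    have hy' : d1Star P' M y = h.pull1 M (k : L1 P'' →ₗ[C] M) := hy
    have hz : g.pull0 M y ∈ LinearMap.ker (d1Star P M) := by
      rw [LinearMap.mem_ker, ← PresHom.pull1_d1Star, hy', H.zero1]
    refine ⟨⟨g.pull0 M y, hz⟩, ?_⟩
    exact R0_unique H (δ₀_spec H _) ⟨y, k, rfl, hy'.symm, rfl⟩
  · rintro ⟨z, rfl⟩
    obtain ⟨y, k, hy, hk, hu⟩ := δ₀_spec H z
    rw [hu, T1pull_mk, Submodule.Quotient.mk_eq_zero]
    exact Submodule.mem_comap.2 (LinearMap.mem_range.2 ⟨y, hk.symm⟩)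

/-! ### The second connecting map -/

omit H in
/-- the relation defining `δ₁` -/
def R1 (g : PresHom P P') (h : PresHom P' P'') (M : Type m) [AddCommGroup M] [Module C M]
    [Module B M] [IsScalarTower B C M] (t : T1 P M) (u : T2 P'' M) : Prop :=
  ∃ (c : cocycles1 P M) (y : L1 P' →ₗ[C] M) (e : L2 P'' →ₗ[C] M),
    Submodule.Quotient.mk c = t ∧ g.pull1 M y = (c : L1 P →ₗ[B] M) ∧
    h.pull2 M e = d2Star P' M y ∧ u = Submodule.Quotient.mk e

theorem R1_exists (t : T1 P M) : ∃ u, R1 g h M t u := by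
  obtain ⟨c, rfl⟩ := Submodule.Quotient.mk_surjective _ t
  obtain ⟨y, hy⟩ := H.surj1 (c : L1 P →ₗ[B] M)
  have h2 : g.pull2 M (d2Star P' M y) = 0 := by
    rw [PresHom.pull2_d2Star, hy]
    exact LinearMap.mem_ker.1 c.2
  obtain ⟨e, he⟩ := H.ex2 _ h2
  exact ⟨_, c, y, e, rfl, hy, he, rfl⟩

theorem R1_unique {t : T1 P M} {u u' : T2 P'' M} (hu : R1 g h M t u) (hu' : R1 g h M t u') :
    u = u' := by
  obtain ⟨c, y, e, hc, hy, he, rfl⟩ := hu
  obtain ⟨c', y', e', hc', hy', he', rfl⟩ := hu'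
  have hcc : c - c' ∈ coboundaries1 P M := by
    rw [← Submodule.Quotient.eq, hc, hc']
  obtain ⟨ψ, hψ⟩ := LinearMap.mem_range.1 (Submodule.mem_comap.1 hcc)
  have hψ' : d1Star P M ψ = (c : L1 P →ₗ[B] M) - (c' : L1 P →ₗ[B] M) := hψ
  obtain ⟨χ, rfl⟩ := H.surj0 ψ
  have h1 : g.pull1 M (y - y' - d1Star P' M χ) = 0 := by
    rw [map_sub, map_sub, hy, hy', PresHom.pull1_d1Star, hψ', sub_self]
  obtain ⟨k, hk⟩ := H.ex1 _ h1
  rw [Submodule.Quotient.eq]
  refine LinearMap.mem_range.2 ⟨k, ?_⟩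
  apply H.inj2
  rw [PresHom.pull2_d2Star, hk, map_sub, map_sub, map_sub, d2d1, sub_zero, he, he']

omit H in
theorem R1_add {t t' : T1 P M} {u u' : T2 P'' M} (hu : R1 g h M t u) (hu' : R1 g h M t' u') :
    R1 g h M (t + t') (u + u') := by
  obtain ⟨c, y, e, rfl, hy, he, rfl⟩ := hu
  obtain ⟨c', y', e', rfl, hy', he', rfl⟩ := hu'
  refine ⟨c + c', y + y', e + e', rfl, ?_, ?_, rfl⟩
  · rw [map_add, hy, hy']; rfl
  · rw [map_add, map_add, he, he']

/-- the second connecting map -/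
def δ₁ : T1 P M →+ T2 P'' M :=
  AddMonoidHom.mk' (fun t => Classical.choose (R1_exists H t)) (fun t t' =>
    R1_unique H (Classical.choose_spec (R1_exists H (t + t')))
      (R1_add (Classical.choose_spec (R1_exists H t)) (Classical.choose_spec (R1_exists H t'))))

theorem δ₁_spec (t : T1 P M) : R1 g h M t (δ₁ H t) := Classical.choose_spec (R1_exists H t)

theorem exact_T1_δ₁ : Function.Exact (g.T1pull M) (δ₁ H) := by
  intro t
  constructor
  · intro ht
    have hs := δ₁_spec H t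
    rw [ht] at hs
    obtain ⟨c, y, e, hc, hy, he, hu⟩ := hs
    obtain ⟨k, hk⟩ := LinearMap.mem_range.1 ((Submodule.Quotient.mk_eq_zero _).1 hu.symm)
    have hw : y - h.pull1 M k ∈ cocycles1 P' M := by
      rw [LinearMap.mem_ker, map_sub, ← PresHom.pull2_d2Star, hk, he, sub_self]
    refine ⟨Submodule.Quotient.mk ⟨y - h.pull1 M k, hw⟩, ?_⟩
    rw [T1pull_mk, ← hc]
    congr 1
    apply Subtype.ext
    change g.pull1 M (y - h.pull1 M k) = _
    rw [map_sub, H.zero1, sub_zero, hy]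
  · rintro ⟨x, rfl⟩
    obtain ⟨cL, rfl⟩ := Submodule.Quotient.mk_surjective _ x
    refine R1_unique H (δ₁_spec H _) ⟨g.cocycles1Pull M cL, (cL : L1 P' →ₗ[C] M), 0,
      (T1pull_mk g M cL).symm, rfl, ?_, (Submodule.Quotient.mk_zero _).symm⟩
    rw [map_zero]
    exact (LinearMap.mem_ker.1 cL.2).symm

theorem exact_δ₁_T2 : Function.Exact (δ₁ H) (h.T2pull M) := by
  intro u
  constructor
  · intro hu
    obtain ⟨e, rfl⟩ := Submodule.Quotient.mk_surjective _ u
    rw [T2pull_mk] at hu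
    obtain ⟨y, hy⟩ := LinearMap.mem_range.1 ((Submodule.Quotient.mk_eq_zero _).1 hu)
    have hc : g.pull1 M y ∈ cocycles1 P M := by
      rw [LinearMap.mem_ker, ← PresHom.pull2_d2Star, hy, H.zero2]
    refine ⟨Submodule.Quotient.mk ⟨g.pull1 M y, hc⟩, ?_⟩
    exact R1_unique H (δ₁_spec H _) ⟨⟨g.pull1 M y, hc⟩, y, e, rfl, rfl, hy.symm, rfl⟩
  · rintro ⟨t, rfl⟩
    obtain ⟨c, y, e, hc, hy, he, hu⟩ := δ₁_spec H t
    rw [hu, T2pull_mk, Submodule.Quotient.mk_eq_zero]
    exact LinearMap.mem_range.2 ⟨y, he.symm⟩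

end Nine

end Groth.Agent.H28.CotNine
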