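import Groth.Prelude.Def_CotT2
import Groth.Agent.S12289

/-!
# Basic evaluation lemmas for the maps induced on `T⁰, T¹, T²` by a morphism of presentations,
and their invariance under homotopy (`T⁰`, `T¹`; general squares).
-/

set_option autoImplicit false
universe u w m
open Function TensorProduct CotT

noncomputable section

namespace Groth.Agent.H28.CotNine

attribute [local instance] SMulCommClass.of_commMonoid

section Eval

variable {A B A' B' : Type u} {ι σ ι' σ' : Type w}
variable [CommRing A] [CommRing B] [Algebra A B] [CommRing A'] [CommRing B'] [Algebra A' B']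
variable [Algebra A A'] [Algebra B B'] [Algebra A B'] [IsScalarTower A A' B'] [IsScalarTower A B B']
variable {P : Algebra.Presentation A B ι σ} {P' : Algebra.Presentation A' B' ι' σ'}
variable (h : PresHom P P')
variable (M : Type m) [AddCommGroup M] [Module B' M] [Module B M] [IsScalarTower B B' M]

theorem T0pull_val (ψ : T0 P' M) :
    (h.T0pull M ψ : L0 P →ₗ[B] M) = h.pull0 M (ψ : L0 P' →ₗ[B'] M) := rfl

theorem T1pull_mk (c : cocycles1 P' M) :
    h.T1pull M (Submodule.Quotient.mk c) = Submodule.Quotient.mk (h.cocycles1Pull M c) := rfl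

theorem T2pull_mk (e : L2 P' →ₗ[B'] M) :
    h.T2pull M (Submodule.Quotient.mk e) = Submodule.Quotient.mk (h.pull2 M e) := rfl

/-- Pull back a map out of the cotangent module along an arbitrary morphism of extensions. -/
def cotPullE (g : P.toExtension.Hom P'.toExtension) (φ : P'.toExtension.Cotangent →ₗ[B'] M) :
    P.toExtension.Cotangent →ₗ[B] M where
  toFun y := φ (Algebra.Extension.Cotangent.map g y)
  map_add' x y := by rw [map_add, map_add]
  map_smul' b y := by
    rw [map_smul, RingHom.id_apply, ← algebraMap_smul B' b (Algebra.Extension.Cotangent.map g y),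
      map_smul, algebraMap_smul]

theorem cotPullE_apply (g : P.toExtension.Hom P'.toExtension)
    (φ : P'.toExtension.Cotangent →ₗ[B'] M) (y : P.toExtension.Cotangent) :
    cotPullE M g φ y = φ (Algebra.Extension.Cotangent.map g y) := rfl

theorem T1pull_homToT1 (φ : P'.toExtension.Cotangent →ₗ[B'] M) :
    h.T1pull M (homToT1 P' M φ) = homToT1 P M (cotPullE M h.hom.toExtensionHom φ) := by
  change Submodule.Quotient.mk _ = Submodule.Quotient.mk _
  congr 1
  apply Subtype.ext
  refine LinearMap.ext fun x => ?_
  change φ (toCot P' (h.L1map x)) = φ (Algebra.Extension.Cotangent.map h.hom.toExtensionHom (toCot P x))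
  rw [PresHom.toCot_L1map]
  rfl

end Eval

section Tower

variable {A B A' B' A'' B'' : Type u} {ι σ ι' σ' ι'' σ'' : Type w}
variable [CommRing A] [CommRing B] [Algebra A B] [CommRing A'] [CommRing B'] [Algebra A' B']
  [CommRing A''] [CommRing B''] [Algebra A'' B'']
variable [Algebra A A'] [Algebra B B'] [Algebra A B'] [IsScalarTower A A' B'] [IsScalarTower A B B']
variable [Algebra A' A''] [Algebra B' B''] [Algebra A' B''] [IsScalarTower A' A'' B'']
  [IsScalarTower A' B' B'']
variable [Algebra A A''] [Algebra B B''] [Algebra A B''] [IsScalarTower A A'' B'']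
  [IsScalarTower A B B'']
variable [IsScalarTower A A' A''] [IsScalarTower B B' B'']
variable {P : Algebra.Presentation A B ι σ} {P' : Algebra.Presentation A' B' ι' σ'}
  {P'' : Algebra.Presentation A'' B'' ι'' σ''}
variable (h : PresHom P P') (h' : PresHom P' P'')
variable (M : Type m) [AddCommGroup M] [Module B'' M] [Module B' M] [Module B M]
  [IsScalarTower B' B'' M] [IsScalarTower B B' M] [IsScalarTower B B'' M]

theorem T0_vanish (ψ : T0 P'' M) (y : P''.toExtension.Cotangent) :
    (ψ : L0 P'' →ₗ[B''] M) (P''.toExtension.cotangentComplex y) = 0 := by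
  have hψ : (ψ : L0 P'' →ₗ[B''] M) ∈
      LinearMap.ker (LinearMap.lcomp B'' M P''.toExtension.cotangentComplex) := by
    rw [← (Groth.Agent.S12289.result A'' B'' ι'' σ'' P'' M).1]
    exact ψ.2
  exact LinearMap.congr_fun (LinearMap.mem_ker.1 hψ) y

theorem T0_comp_apply (g : P.toExtension.Hom P''.toExtension) (ψ : T0 P'' M) (x : L0 P) :
    (h.T0pull M (h'.T0pull M ψ) : L0 P →ₗ[B] M) x =
      (ψ : L0 P'' →ₗ[B''] M) (Algebra.Extension.CotangentSpace.map g x) := by
  have h1 : (h.T0pull M (h'.T0pull M ψ) : L0 P →ₗ[B] M) x = (ψ : L0 P'' →ₗ[B''] M)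
      (Algebra.Extension.CotangentSpace.map
        (h'.hom.toExtensionHom.comp h.hom.toExtensionHom) x) := by
    change (ψ : L0 P'' →ₗ[B''] M) (h'.L0map (h.L0map x)) = _
    rw [PresHom.L0map_apply, PresHom.L0map_apply,
      ← Algebra.Extension.CotangentSpace.map_comp_apply]
  have h2 : Algebra.Extension.CotangentSpace.map
        (h'.hom.toExtensionHom.comp h.hom.toExtensionHom) x -
      Algebra.Extension.CotangentSpace.map g x =
      P''.toExtension.cotangentComplex
        ((h'.hom.toExtensionHom.comp h.hom.toExtensionHom).sub g x) := by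
    have := LinearMap.congr_fun (Algebra.Extension.CotangentSpace.map_sub_map
      (h'.hom.toExtensionHom.comp h.hom.toExtensionHom) g) x
    simpa using this
  rw [h1, ← sub_eq_zero, ← map_sub, h2, T0_vanish]

theorem T0_comp_eq (k : PresHom P P'') (ψ : T0 P'' M) :
    h.T0pull M (h'.T0pull M ψ) = k.T0pull M ψ := by
  apply Subtype.ext
  refine LinearMap.ext fun x => ?_
  rw [T0_comp_apply h h' M k.hom.toExtensionHom ψ x]
  rfl

theorem T1_comp_homToT1 (g : P.toExtension.Hom P''.toExtension)
    (φ : P''.toExtension.Cotangent →ₗ[B''] M) :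
    h.T1pull M (h'.T1pull M (homToT1 P'' M φ)) = homToT1 P M (cotPullE M g φ) := by
  rw [T1pull_homToT1, T1pull_homToT1, ← sub_eq_zero, ← map_sub, ← LinearMap.mem_ker,
    (Groth.Agent.S12289.result A B ι σ P M).2.1]
  let χ : L0 P →ₗ[B] M :=
    { toFun := fun x => φ ((h'.hom.toExtensionHom.comp h.hom.toExtensionHom).sub g x)
      map_add' := fun x y => by rw [map_add, map_add]
      map_smul' := fun b x => by
        rw [map_smul, RingHom.id_apply, ← algebraMap_smul B'' b
          ((h'.hom.toExtensionHom.comp h.hom.toExtensionHom).sub g x), map_smul,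
          algebraMap_smul] }
  refine ⟨χ, ?_⟩
  refine LinearMap.ext fun y => ?_
  have := LinearMap.congr_fun (Algebra.Extension.Cotangent.map_sub_map
    (h'.hom.toExtensionHom.comp h.hom.toExtensionHom) g) y
  rw [LinearMap.sub_apply, LinearMap.comp_apply, Algebra.Extension.Cotangent.map_comp] at this
  change φ ((h'.hom.toExtensionHom.comp h.hom.toExtensionHom).sub g
    (P.toExtension.cotangentComplex y)) =
    φ (Algebra.Extension.Cotangent.map h'.hom.toExtensionHom
      (Algebra.Extension.Cotangent.map h.hom.toExtensionHom y)) -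
    φ (Algebra.Extension.Cotangent.map g y)
  rw [← this, map_sub]
  rfl

theorem T1_comp_eq (k : PresHom P P'') (x : T1 P'' M) :
    h.T1pull M (h'.T1pull M x) = k.T1pull M x := by
  obtain ⟨φ, rfl⟩ := (Groth.Agent.S12289.result A'' B'' ι'' σ'' P'' M).2.2 x
  rw [T1_comp_homToT1 h h' M k.hom.toExtensionHom φ, T1pull_homToT1]

/-- strict composition on `T²` -/
theorem T2_comp_eq_strict (k : PresHom P P'')
    (hk : ∀ f, k.relModMap f = h'.relModMap (h.relModMap f)) (x : T2 P'' M) :
    h.T2pull M (h'.T2pull M x) = k.T2pull M x := by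
  obtain ⟨e, rfl⟩ := Submodule.Quotient.mk_surjective _ x
  rw [T2pull_mk, T2pull_mk, T2pull_mk]
  congr 1
  refine LinearMap.ext fun z => ?_
  change e (h'.L2map (h.L2map z)) = e (k.L2map z)
  congr 1
  induction z using Submodule.Quotient.induction_on with
  | H z =>
    induction z using TensorProduct.induction_on with
    | zero => simp
    | add x y hx hy =>
      rw [Submodule.Quotient.mk_add, map_add, map_add, map_add, hx, hy]
    | tmul b q =>
      rw [PresHom.L2map_mk_tmul, PresHom.L2map_mk_tmul, PresHom.L2map_mk_tmul,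
        ← IsScalarTower.algebraMap_apply B B' B'']
      congr 2
      apply Subtype.ext
      exact (hk q).symm

end Tower

section Same

variable {A C : Type u} [CommRing A] [CommRing C] [Algebra A C] {ι σ ι' σ' : Type w}
variable {P : Algebra.Presentation A C ι σ} {P' : Algebra.Presentation A C ι' σ'}
variable (h : PresHom P P') (h' : PresHom P' P) (M : Type m) [AddCommGroup M] [Module C M]

theorem T0_retract (ψ : T0 P M) : h.T0pull M (h'.T0pull M ψ) = ψ := by
  apply Subtype.ext
  refine LinearMap.ext fun x => ?_
  rw [T0_comp_apply h h' M (Algebra.Extension.Hom.id P.toExtension) ψ x,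
    Algebra.Extension.CotangentSpace.map_id]
  rfl

theorem T1_retract (x : T1 P M) : h.T1pull M (h'.T1pull M x) = x := by
  obtain ⟨φ, rfl⟩ := (Groth.Agent.S12289.result A C ι σ P M).2.2 x
  rw [T1_comp_homToT1 h h' M (Algebra.Extension.Hom.id P.toExtension) φ]
  congr 1
  refine LinearMap.ext fun y => ?_
  rw [cotPullE_apply, Algebra.Extension.Cotangent.map_id]
  rfl

end Same

end Groth.Agent.H28.CotNine
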