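import Groth.Agent.H28.CotNine.Abs
import Mathlib.RingTheory.Extension.Presentation.Basic
import Mathlib.Algebra.MvPolynomial.Equiv

/-!
# The composite presentation and cochain-level exactness
-/

set_option autoImplicit false
universe u w m
open Function TensorProduct CotT

noncomputable section

namespace Groth.Agent.H28.CotNine

section Comp

variable {A B C : Type u} [CommRing A] [CommRing B] [CommRing C] [Algebra A B] [Algebra B C]
  [Algebra A C] [IsScalarTower A B C]
variable {ι σ ι' σ' : Type w}
variable (P : Algebra.Presentation A B ι σ) (Q : Algebra.Presentation B C ι' σ')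

/-- the morphism `P → Q ∘ P` -/
def kIn : PresHom P (Q.comp P) where
  hom := Q.toGenerators.toComp P.toGenerators
  relVal s := Finsupp.single (Sum.inr s) 1
  jmap_relVal s := by
    rw [jmap_single, one_mul]
    change MvPolynomial.rename Sum.inr (P.relation s) =
      (Q.toGenerators.toComp P.toGenerators).toAlgHom (P.relation s)
    rw [Algebra.Generators.toComp_toAlgHom]

/-- the morphism `Q ∘ P → Q` -/
def kOut : PresHom (Q.comp P) Q where
  hom := Q.toGenerators.ofComp P.toGenerators
  relVal := Sum.elim (fun t => Finsupp.single t 1) (fun _ => 0)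
  jmap_relVal s := by
    cases s with
    | inl t =>
      rw [Sum.elim_inl, jmap_single, one_mul]
      exact (Q.comp_aeval_relation_inl P t).symm
    | inr s =>
      rw [Sum.elim_inr, map_zero]
      change 0 = (Q.toGenerators.ofComp P.toGenerators).toAlgHom
        (MvPolynomial.rename Sum.inr (P.relation s))
      rw [Algebra.Generators.toAlgHom_ofComp_rename]
      have : algebraMap P.toGenerators.Ring B (P.relation s) = 0 := algebraMap_rel P s
      rw [this, map_zero]

theorem kIn_ringHom_apply (r : P.toExtension.Ring) :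
    (kIn P Q).ringHom r = MvPolynomial.rename Sum.inr r := by
  change (Q.toGenerators.toComp P.toGenerators).toAlgHom r = _
  rw [Algebra.Generators.toComp_toAlgHom]

theorem kOut_ringHom_surjective : Surjective (kOut P Q).ringHom :=
  Algebra.Generators.toAlgHom_ofComp_surjective Q.toGenerators P.toGenerators

theorem kOut_kIn_ringHom (r : P.toExtension.Ring) :
    (kOut P Q).ringHom ((kIn P Q).ringHom r) = MvPolynomial.C (algebraMap P.toExtension.Ring B r) := by
  rw [kIn_ringHom_apply]
  exact Algebra.Generators.toAlgHom_ofComp_rename Q.toGenerators P.toGenerators r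

/-! ### values on bases -/

theorem L0map_kIn (i : ι) : (kIn P Q).L0map (P.cotangentSpaceBasis i) =
    (Q.comp P).cotangentSpaceBasis (Sum.inr i) := by
  rw [PresHom.L0map_apply, Algebra.Generators.cotangentSpaceBasis_apply,
    Algebra.Generators.cotangentSpaceBasis_apply]
  erw [Algebra.Extension.CotangentSpace.map_tmul]
  have : (Q.toGenerators.toComp P.toGenerators).toExtensionHom.toAlgHom
      (MvPolynomial.X i) = MvPolynomial.X (Sum.inr i) := by
    change (Q.toGenerators.toComp P.toGenerators).toAlgHom (MvPolynomial.X i) = _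
    rw [Algebra.Generators.Hom.toAlgHom_X]
    rfl
  erw [this]
  rw [map_one]
  rfl

theorem L0map_kOut_inl (j : ι') : (kOut P Q).L0map ((Q.comp P).cotangentSpaceBasis (Sum.inl j)) =
    Q.cotangentSpaceBasis j := by
  rw [PresHom.L0map_apply, Algebra.Generators.cotangentSpaceBasis_apply,
    Algebra.Generators.cotangentSpaceBasis_apply]
  erw [Algebra.Extension.CotangentSpace.map_tmul]
  have : (Q.toGenerators.ofComp P.toGenerators).toExtensionHom.toAlgHom
      (MvPolynomial.X (Sum.inl j)) = MvPolynomial.X j := by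
    change (Q.toGenerators.ofComp P.toGenerators).toAlgHom (MvPolynomial.X (Sum.inl j)) = _
    rw [Algebra.Generators.Hom.toAlgHom_X]
    rfl
  erw [this]
  rw [map_one]
  rfl

theorem L0map_kOut_inr (i : ι) : (kOut P Q).L0map ((Q.comp P).cotangentSpaceBasis (Sum.inr i)) =
    0 := by
  rw [PresHom.L0map_apply, Algebra.Generators.cotangentSpaceBasis_apply]
  erw [Algebra.Extension.CotangentSpace.map_tmul]
  have : (Q.toGenerators.ofComp P.toGenerators).toExtensionHom.toAlgHom
      (MvPolynomial.X (Sum.inr i)) = algebraMap B Q.toExtension.Ring (P.val i) := by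
    change (Q.toGenerators.ofComp P.toGenerators).toAlgHom (MvPolynomial.X (Sum.inr i)) = _
    rw [Algebra.Generators.Hom.toAlgHom_X]
    rfl
  erw [this, Derivation.map_algebraMap, TensorProduct.tmul_zero]

theorem L1map_kIn (s : σ) : (kIn P Q).L1map (L1basis P s) = L1basis (Q.comp P) (Sum.inr s) := by
  rw [L1basis_apply, L1basis_apply, PresHom.L1map_tmul, map_one, PresHom.relModMap_single, map_one,
    one_smul]
  rfl

theorem L1map_kOut_inl (t : σ') : (kOut P Q).L1map (L1basis (Q.comp P) (Sum.inl t)) =
    L1basis Q t := by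
  rw [L1basis_apply, L1basis_apply, PresHom.L1map_tmul, map_one, PresHom.relModMap_single, map_one,
    one_smul]
  rfl

theorem L1map_kOut_inr (s : σ) : (kOut P Q).L1map (L1basis (Q.comp P) (Sum.inr s)) = 0 := by
  rw [L1basis_apply, PresHom.L1map_tmul, map_one, PresHom.relModMap_single, map_one, one_smul]
  change (1 : C) ⊗ₜ[Q.toExtension.Ring] (0 : relMod Q) = 0
  rw [TensorProduct.tmul_zero]

/-! ### cochain-level exactness in degrees `0` and `1` -/

section Deg01

variable (M : Type m) [AddCommGroup M] [Module C M] [Module B M] [IsScalarTower B C M]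

theorem inj0 : Injective ((kOut P Q).pull0 M) := by
  intro χ χ' e
  refine Q.cotangentSpaceBasis.ext fun j => ?_
  have := LinearMap.congr_fun e ((Q.comp P).cotangentSpaceBasis (Sum.inl j))
  rw [PresHom.pull0_apply, PresHom.pull0_apply, L0map_kOut_inl] at this
  exact this

theorem zero0 (χ : L0 Q →ₗ[C] M) : (kIn P Q).pull0 M ((kOut P Q).pull0 M χ) = 0 := by
  refine P.cotangentSpaceBasis.ext fun i => ?_
  rw [PresHom.pull0_apply, PresHom.pull0_apply, L0map_kIn, L0map_kOut_inr, map_zero,
    LinearMap.zero_apply]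

theorem ex0 (ψ : L0 (Q.comp P) →ₗ[C] M) (hψ : (kIn P Q).pull0 M ψ = 0) :
    ∃ χ, (kOut P Q).pull0 M χ = ψ := by
  refine ⟨Q.cotangentSpaceBasis.constr ℕ
    (fun j => ψ ((Q.comp P).cotangentSpaceBasis (Sum.inl j))), ?_⟩
  refine (Q.comp P).cotangentSpaceBasis.ext fun i => ?_
  cases i with
  | inl j => rw [PresHom.pull0_apply, L0map_kOut_inl, Module.Basis.constr_basis]
  | inr i =>
    rw [PresHom.pull0_apply, L0map_kOut_inr, map_zero]
    have := LinearMap.congr_fun hψ (P.cotangentSpaceBasis i)
    rw [PresHom.pull0_apply, L0map_kIn, LinearMap.zero_apply] at this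
    exact this.symm

theorem surj0 : Surjective ((kIn P Q).pull0 M) := by
  intro χ
  refine ⟨(Q.comp P).cotangentSpaceBasis.constr ℕ
    (Sum.elim (fun _ => 0) (fun i => χ (P.cotangentSpaceBasis i))), ?_⟩
  refine P.cotangentSpaceBasis.ext fun i => ?_
  rw [PresHom.pull0_apply, L0map_kIn, Module.Basis.constr_basis, Sum.elim_inr]

theorem inj1 : Injective ((kOut P Q).pull1 M) := by
  intro χ χ' e
  refine (L1basis Q).ext fun j => ?_
  have := LinearMap.congr_fun e (L1basis (Q.comp P) (Sum.inl j))
  rw [PresHom.pull1_apply, PresHom.pull1_apply, L1map_kOut_inl] at this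
  exact this

theorem zero1 (χ : L1 Q →ₗ[C] M) : (kIn P Q).pull1 M ((kOut P Q).pull1 M χ) = 0 := by
  refine (L1basis P).ext fun i => ?_
  rw [PresHom.pull1_apply, PresHom.pull1_apply, L1map_kIn, L1map_kOut_inr, map_zero,
    LinearMap.zero_apply]

theorem ex1 (ψ : L1 (Q.comp P) →ₗ[C] M) (hψ : (kIn P Q).pull1 M ψ = 0) :
    ∃ χ, (kOut P Q).pull1 M χ = ψ := by
  refine ⟨(L1basis Q).constr ℕ (fun j => ψ (L1basis (Q.comp P) (Sum.inl j))), ?_⟩
  refine (L1basis (Q.comp P)).ext fun i => ?_
  cases i with
  | inl j => rw [PresHom.pull1_apply, L1map_kOut_inl, Module.Basis.constr_basis]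
  | inr i =>
    rw [PresHom.pull1_apply, L1map_kOut_inr, map_zero]
    have := LinearMap.congr_fun hψ (L1basis P i)
    rw [PresHom.pull1_apply, L1map_kIn, LinearMap.zero_apply] at this
    exact this.symm

theorem surj1 : Surjective ((kIn P Q).pull1 M) := by
  intro χ
  refine ⟨(L1basis (Q.comp P)).constr ℕ (Sum.elim (fun _ => 0) (fun i => χ (L1basis P i))), ?_⟩
  refine (L1basis P).ext fun i => ?_
  rw [PresHom.pull1_apply, L1map_kIn, Module.Basis.constr_basis, Sum.elim_inr]

end Deg01

end Comp

end Groth.Agent.H28.CotNine
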