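import Groth.Agent.H28.CotNine.Comp

/-!
# The composite presentation: cochain-level exactness in degree `2`
-/

set_option autoImplicit false
universe u w m
open Function TensorProduct CotT

noncomputable section

namespace Groth.Agent.H28.CotNine

section Psi

variable {A B : Type u} [CommRing A] [CommRing B] [Algebra A B] {ι σ : Type w}
variable (P : Algebra.Presentation A B ι σ) {M : Type m} [AddCommGroup M] [Module B M]
variable (ψ : L2 P →ₗ[B] M)

/-- the value of `ψ` on the class of `1 ⊗ q` -/
def Psi (q : relKer P) : M :=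
  ψ (Submodule.Quotient.mk ((1 : B) ⊗ₜ[P.toExtension.Ring] q))

theorem Psi_add (q q' : relKer P) : Psi P ψ (q + q') = Psi P ψ q + Psi P ψ q' := by
  unfold Psi
  rw [TensorProduct.tmul_add, Submodule.Quotient.mk_add, map_add]

theorem Psi_zero : Psi P ψ 0 = 0 := by
  unfold Psi
  rw [TensorProduct.tmul_zero, Submodule.Quotient.mk_zero, map_zero]

theorem Psi_sub (q q' : relKer P) : Psi P ψ (q - q') = Psi P ψ q - Psi P ψ q' := by
  have e : q - q' + q' = q := sub_add_cancel q q'
  have := Psi_add P ψ (q - q') q'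
  rw [e] at this
  rw [this, add_sub_cancel_right]

theorem psi_mk_tmul (b : B) (q : relKer P) :
    ψ (Submodule.Quotient.mk (b ⊗ₜ[P.toExtension.Ring] q)) = b • Psi P ψ q := by
  unfold Psi
  rw [← map_smul, ← Submodule.Quotient.mk_smul, TensorProduct.smul_tmul', smul_eq_mul, mul_one]

theorem Psi_smul (r : P.toExtension.Ring) (q : relKer P) :
    Psi P ψ (r • q) = algebraMap P.toExtension.Ring B r • Psi P ψ q := by
  rw [← psi_mk_tmul]
  unfold Psi
  rw [← TensorProduct.smul_tmul, Algebra.smul_def, mul_one]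

theorem Psi_triv (q : relKer P) (hq : (q : relMod P) ∈ trivRel P) : Psi P ψ q = 0 := by
  unfold Psi
  have : (Submodule.Quotient.mk ((1 : B) ⊗ₜ[P.toExtension.Ring] q) : L2 P) = 0 := by
    rw [Submodule.Quotient.mk_eq_zero]
    exact ⟨(1 : B) ⊗ₜ ⟨q, hq⟩, rfl⟩
  rw [this, map_zero]

end Psi

section Comp

variable {A B C : Type u} [CommRing A] [CommRing B] [CommRing C] [Algebra A B] [Algebra B C]
  [Algebra A C] [IsScalarTower A B C]
variable {ι σ ι' σ' : Type w}
variable (P : Algebra.Presentation A B ι σ) (Q : Algebra.Presentation B C ι' σ')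

/-! ### the maps on the relation modules -/

theorem kOut_relModMap_inl (t : σ') (a : (Q.comp P).toExtension.Ring) :
    (kOut P Q).relModMap (Finsupp.single (Sum.inl t) a) =
      Finsupp.single t ((kOut P Q).ringHom a) := by
  rw [PresHom.relModMap_single]
  change (kOut P Q).ringHom a • (Finsupp.single t 1 : relMod Q) = _
  rw [Finsupp.smul_single, smul_eq_mul, mul_one]

theorem kOut_relModMap_inr (s : σ) (a : (Q.comp P).toExtension.Ring) :
    (kOut P Q).relModMap (Finsupp.single (Sum.inr s) a) = 0 := by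
  rw [PresHom.relModMap_single]
  change (kOut P Q).ringHom a • (0 : relMod Q) = _
  rw [smul_zero]

theorem kIn_relModMap_single (s : σ) (r : P.toExtension.Ring) :
    (kIn P Q).relModMap (Finsupp.single s r) =
      Finsupp.single (Sum.inr s) ((kIn P Q).ringHom r) := by
  rw [PresHom.relModMap_single]
  change (kIn P Q).ringHom r • (Finsupp.single (Sum.inr s) 1 : relMod (Q.comp P)) = _
  rw [Finsupp.smul_single, smul_eq_mul, mul_one]

theorem kOut_kIn_relModMap (f : relMod P) :
    (kOut P Q).relModMap ((kIn P Q).relModMap f) = 0 := by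
  induction f using Finsupp.induction_linear with
  | zero => simp
  | add f g hf hg => rw [map_add, map_add, hf, hg, add_zero]
  | single s r => rw [kIn_relModMap_single, kOut_relModMap_inr]

theorem kOut_relModMap_apply (f : relMod (Q.comp P)) (t : σ') :
    (kOut P Q).relModMap f t = (kOut P Q).ringHom (f (Sum.inl t)) := by
  classical
  induction f using Finsupp.induction_linear with
  | zero => simp
  | add f g hf hg => rw [map_add, Finsupp.add_apply, Finsupp.add_apply, hf, hg, map_add]
  | single x a =>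
    cases x with
    | inl t' =>
      rw [kOut_relModMap_inl, Finsupp.single_apply, Finsupp.single_apply]
      by_cases h : t' = t
      · rw [if_pos h, if_pos (by rw [h])]
      · rw [if_neg h, if_neg (fun h' => h (Sum.inl.inj h')), map_zero]
    | inr s =>
      rw [kOut_relModMap_inr, Finsupp.single_apply, if_neg (by simp), map_zero]
      rfl

/-- the inclusion of the relations coming from `P` -/
def E : (σ →₀ (Q.comp P).toExtension.Ring) →ₗ[(Q.comp P).toExtension.Ring] relMod (Q.comp P) :=
  Finsupp.lmapDomain _ _ Sum.inr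

theorem E_single (s : σ) (a : (Q.comp P).toExtension.Ring) :
    E P Q (Finsupp.single s a) = Finsupp.single (Sum.inr s) a := by
  change Finsupp.mapDomain Sum.inr (Finsupp.single s a) = _
  rw [Finsupp.mapDomain_single]

theorem kOut_relModMap_E (c : σ →₀ (Q.comp P).toExtension.Ring) :
    (kOut P Q).relModMap (E P Q c) = 0 := by
  induction c using Finsupp.induction_linear with
  | zero => simp
  | add f g hf hg => rw [map_add, map_add, hf, hg, add_zero]
  | single s a => rw [E_single, kOut_relModMap_inr]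

theorem kIn_relModMap_eq_E (f : relMod P) :
    (kIn P Q).relModMap f =
      E P Q (Finsupp.mapRange (kIn P Q).ringHom (map_zero _) f) := by
  induction f using Finsupp.induction_linear with
  | zero => simp
  | add f g hf hg => rw [map_add, hf, hg, Finsupp.mapRange_add (map_add _), map_add]
  | single s r => rw [kIn_relModMap_single, Finsupp.mapRange_single, E_single]

theorem relModMap_kOut_surjective (f₃ : relMod Q) : ∃ f, (kOut P Q).relModMap f = f₃ := by
  induction f₃ using Finsupp.induction_linear with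
  | zero => exact ⟨0, map_zero _⟩
  | add f g hf hg =>
    obtain ⟨f', rfl⟩ := hf
    obtain ⟨g', rfl⟩ := hg
    exact ⟨f' + g', map_add _ _ _⟩
  | single t a₃ =>
    obtain ⟨a, rfl⟩ := kOut_ringHom_surjective P Q a₃
    exact ⟨Finsupp.single (Sum.inl t) a, kOut_relModMap_inl P Q t a⟩

theorem ker_pi (κ : (Q.comp P).toExtension.Ring) (hκ : (kOut P Q).ringHom κ = 0) :
    ∃ c : σ →₀ (Q.comp P).toExtension.Ring, jmap (Q.comp P) (E P Q c) = κ := by
  have h0 : κ ∈ Ideal.map (kIn P Q).ringHom P.toExtension.ker := by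
    have h1 : κ ∈ RingHom.ker (Q.toGenerators.ofComp P.toGenerators).toAlgHom := hκ
    rw [← Algebra.Generators.map_toComp_ker] at h1
    exact h1
  refine Submodule.span_induction (p := fun κ _ => ∃ c : σ →₀ (Q.comp P).toExtension.Ring,
    jmap (Q.comp P) (E P Q c) = κ) ?_ ?_ ?_ ?_ h0
  · rintro _ ⟨x, hx, rfl⟩
    have hx' : x ∈ LinearMap.range (jmap P) := by
      rw [range_jmap]
      exact hx
    obtain ⟨g, rfl⟩ := hx'
    refine ⟨Finsupp.mapRange (kIn P Q).ringHom (map_zero _) g, ?_⟩
    rw [← kIn_relModMap_eq_E, PresHom.jmap_relModMap]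
  · exact ⟨0, by simp⟩
  · rintro x y _ _ ⟨c, rfl⟩ ⟨c', rfl⟩
    exact ⟨c + c', by rw [map_add, map_add]⟩
  · rintro a x _ ⟨c, rfl⟩
    exact ⟨a • c, by rw [map_smul, map_smul]⟩

theorem relKer_lift (q₃ : relKer Q) : ∃ q : relKer (Q.comp P), (kOut P Q).relKerMap q = q₃ := by
  obtain ⟨f, hf⟩ := relModMap_kOut_surjective P Q (q₃ : relMod Q)
  have hκ : (kOut P Q).ringHom (jmap (Q.comp P) f) = 0 := by
    rw [← PresHom.jmap_relModMap, hf]
    exact q₃.2
  obtain ⟨c, hc⟩ := ker_pi P Q _ hκ
  have hq : f - E P Q c ∈ relKer (Q.comp P) := by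
    change jmap (Q.comp P) (f - E P Q c) = 0
    rw [map_sub, hc, sub_self]
  refine ⟨⟨f - E P Q c, hq⟩, Subtype.ext ?_⟩
  change (kOut P Q).relModMap (f - E P Q c) = _
  rw [map_sub, kOut_relModMap_E, sub_zero, hf]

theorem trivRel_lift (y₃ : relMod Q) (hy₃ : y₃ ∈ trivRel Q) :
    ∃ y ∈ trivRel (Q.comp P), (kOut P Q).relModMap y = y₃ := by
  refine Submodule.span_induction (p := fun y₃ _ => ∃ y ∈ trivRel (Q.comp P),
    (kOut P Q).relModMap y = y₃) ?_ ?_ ?_ ?_ hy₃
  · rintro _ ⟨a₃, b₃, rfl⟩
    obtain ⟨a, rfl⟩ := relModMap_kOut_surjective P Q a₃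
    obtain ⟨b, rfl⟩ := relModMap_kOut_surjective P Q b₃
    refine ⟨jmap (Q.comp P) a • b - jmap (Q.comp P) b • a, Submodule.subset_span ⟨a, b, rfl⟩, ?_⟩
    rw [map_sub, LinearMap.map_smulₛₗ, LinearMap.map_smulₛₗ, PresHom.jmap_relModMap,
      PresHom.jmap_relModMap]
  · exact ⟨0, Submodule.zero_mem _, map_zero _⟩
  · rintro x y _ _ ⟨x', hx', rfl⟩ ⟨y', hy', rfl⟩
    exact ⟨x' + y', Submodule.add_mem _ hx' hy', map_add _ _ _⟩
  · rintro r₃ x _ ⟨x', hx', rfl⟩
    obtain ⟨r, rfl⟩ := kOut_ringHom_surjective P Q r₃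
    exact ⟨r • x', Submodule.smul_mem _ _ hx', LinearMap.map_smulₛₗ _ _ _⟩

theorem L2map_kOut_surjective : Surjective (kOut P Q).L2map := by
  intro z
  induction z using Submodule.Quotient.induction_on with
  | H z =>
    induction z using TensorProduct.induction_on with
    | zero => exact ⟨0, map_zero _⟩
    | add x y hx hy =>
      obtain ⟨x', hx'⟩ := hx
      obtain ⟨y', hy'⟩ := hy
      exact ⟨x' + y', by rw [map_add, hx', hy', Submodule.Quotient.mk_add]⟩
    | tmul c q₃ =>
      obtain ⟨q, rfl⟩ := relKer_lift P Q q₃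
      exact ⟨Submodule.Quotient.mk (c ⊗ₜ q), rfl⟩

theorem L2map_kOut_kIn (z : L2 P) : (kOut P Q).L2map ((kIn P Q).L2map z) = 0 := by
  induction z using Submodule.Quotient.induction_on with
  | H z =>
    induction z using TensorProduct.induction_on with
    | zero => simp
    | add x y hx hy => rw [Submodule.Quotient.mk_add, map_add, map_add, hx, hy, add_zero]
    | tmul b q =>
      rw [PresHom.L2map_mk_tmul, PresHom.L2map_mk_tmul]
      have : (kOut P Q).relKerMap ((kIn P Q).relKerMap q) = 0 :=
        Subtype.ext (kOut_kIn_relModMap P Q q)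
      rw [this, TensorProduct.tmul_zero, Submodule.Quotient.mk_zero]

/-! ### Step 1 -/

theorem step1 (f : relMod (Q.comp P)) (hf : (kOut P Q).relModMap f = 0) :
    f ∈ trivRel (Q.comp P) ⊔ LinearMap.range (E P Q) := by
  classical
  rw [← Finsupp.sum_single f, Finsupp.sum]
  refine Submodule.sum_mem _ fun x _ => ?_
  cases x with
  | inr s =>
    exact Submodule.mem_sup_right ⟨Finsupp.single s (f (Sum.inr s)), E_single P Q s _⟩
  | inl t =>
    have ha : (kOut P Q).ringHom (f (Sum.inl t)) = 0 := by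
      rw [← kOut_relModMap_apply, hf]
      rfl
    obtain ⟨c, hc⟩ := ker_pi P Q _ ha
    have e1 : (Finsupp.single (Sum.inl t) (f (Sum.inl t)) : relMod (Q.comp P)) =
        (jmap (Q.comp P) (E P Q c) • (Finsupp.single (Sum.inl t) 1 : relMod (Q.comp P)) -
          jmap (Q.comp P) (Finsupp.single (Sum.inl t) 1 : relMod (Q.comp P)) • E P Q c) +
        jmap (Q.comp P) (Finsupp.single (Sum.inl t) 1 : relMod (Q.comp P)) • E P Q c := by
      rw [sub_add_cancel, hc, Finsupp.smul_single, smul_eq_mul, mul_one]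
    rw [e1]
    exact Submodule.add_mem_sup (Submodule.subset_span ⟨_, _, rfl⟩)
      (Submodule.smul_mem _ _ ⟨c, rfl⟩)

end Comp

end Groth.Agent.H28.CotNine
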