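import Groth.Agent.H28.CotNine.Comp2
import Mathlib.RingTheory.TensorProduct.Basic

/-!
# The composite presentation: the flatness step and the degree-2 exactness
-/

set_option autoImplicit false
universe u w m
open Function TensorProduct CotT

noncomputable section

namespace Groth.Agent.H28.CotNine

section Comp

variable {A B C : Type u} [CommRing A] [CommRing B] [CommRing C] [Algebra A B] [Algebra B C]
  [Algebra A C] [IsScalarTower A B C]
variable {ι σ ι' σ' : Type w}
variable (P : Algebra.Presentation A B ι σ) (Q : Algebra.Presentation B C ι' σ')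

/-- coefficient extraction with respect to the variables of `Q` -/
def kap (m : ι' →₀ ℕ) (p : (Q.comp P).toExtension.Ring) : P.toExtension.Ring :=
  MvPolynomial.coeff m (MvPolynomial.sumAlgEquiv A ι' ι p)

/-- the monomial in the variables of `Q` -/
def mono (m : ι' →₀ ℕ) : (Q.comp P).toExtension.Ring :=
  (MvPolynomial.sumAlgEquiv A ι' ι).symm (MvPolynomial.monomial m 1)

omit [Algebra A B] [CommRing B] [CommRing C] [Algebra B C] [Algebra A C] [IsScalarTower A B C] in
theorem Phi_rename (r : MvPolynomial ι A) :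
    MvPolynomial.sumAlgEquiv A ι' ι (MvPolynomial.rename Sum.inr r) = MvPolynomial.C r :=
  DFunLike.congr_fun (MvPolynomial.sumAlgEquiv_comp_rename_inr A ι' ι) r

omit [Algebra A B] [CommRing B] [CommRing C] [Algebra B C] [Algebra A C] [IsScalarTower A B C] in
theorem kap_add' (m : ι' →₀ ℕ) (p p' : MvPolynomial (ι' ⊕ ι) A) :
    MvPolynomial.coeff m (MvPolynomial.sumAlgEquiv A ι' ι (p + p')) =
      MvPolynomial.coeff m (MvPolynomial.sumAlgEquiv A ι' ι p) +
      MvPolynomial.coeff m (MvPolynomial.sumAlgEquiv A ι' ι p') := by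
  rw [map_add, MvPolynomial.coeff_add]

theorem kap_add (m : ι' →₀ ℕ) (p p' : (Q.comp P).toExtension.Ring) :
    kap P Q m (p + p') = kap P Q m p + kap P Q m p' :=
  kap_add' m p p'

omit [Algebra A B] [CommRing B] [CommRing C] [Algebra B C] [Algebra A C] [IsScalarTower A B C] in
theorem kap_zero' (m : ι' →₀ ℕ) :
    MvPolynomial.coeff m (MvPolynomial.sumAlgEquiv A ι' ι (0 : MvPolynomial (ι' ⊕ ι) A)) =
      (0 : MvPolynomial ι A) := by
  rw [map_zero, MvPolynomial.coeff_zero]

theorem kap_zero (m : ι' →₀ ℕ) : kap P Q m 0 = 0 :=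
  kap_zero' m

omit [Algebra A B] [CommRing B] [CommRing C] [Algebra B C] [Algebra A C] [IsScalarTower A B C] in
theorem kap_mul_rename' (m : ι' →₀ ℕ) (p : MvPolynomial (ι' ⊕ ι) A) (r : MvPolynomial ι A) :
    MvPolynomial.coeff m (MvPolynomial.sumAlgEquiv A ι' ι (p * MvPolynomial.rename Sum.inr r)) =
      MvPolynomial.coeff m (MvPolynomial.sumAlgEquiv A ι' ι p) * r := by
  rw [map_mul, Phi_rename, mul_comm, MvPolynomial.coeff_C_mul, mul_comm]

theorem kap_mul_rename (m : ι' →₀ ℕ) (p : (Q.comp P).toExtension.Ring)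
    (r : P.toExtension.Ring) :
    kap P Q m (p * (kIn P Q).ringHom r) = kap P Q m p * r := by
  rw [kIn_ringHom_apply]
  exact kap_mul_rename' m p r

omit [Algebra A B] [CommRing B] [CommRing C] [Algebra B C] [Algebra A C] [IsScalarTower A B C] in
theorem recon (p : MvPolynomial (ι' ⊕ ι) A) (T : Finset (ι' →₀ ℕ))
    (hT : (MvPolynomial.sumAlgEquiv A ι' ι p).support ⊆ T) :
    p = ∑ m ∈ T, MvPolynomial.rename Sum.inr
        (MvPolynomial.coeff m (MvPolynomial.sumAlgEquiv A ι' ι p)) *
      (MvPolynomial.sumAlgEquiv A ι' ι).symm (MvPolynomial.monomial m 1) := by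
  apply (MvPolynomial.sumAlgEquiv A ι' ι).injective
  rw [map_sum]
  simp_rw [map_mul, Phi_rename, AlgEquiv.apply_symm_apply, MvPolynomial.C_mul_monomial, mul_one]
  conv_lhs => rw [(MvPolynomial.sumAlgEquiv A ι' ι p).as_sum]
  refine Finset.sum_subset hT (fun m _ hm => ?_)
  rw [MvPolynomial.notMem_support_iff.1 hm, map_zero]

/-- the coefficient relation -/
def tau (m : ι' →₀ ℕ) (c : σ →₀ (Q.comp P).toExtension.Ring) : relMod P :=
  Finsupp.mapRange (kap P Q m) (kap_zero P Q m) c

theorem jmap_tau (m : ι' →₀ ℕ) (c : σ →₀ (Q.comp P).toExtension.Ring) :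
    jmap P (tau P Q m c) = kap P Q m (jmap (Q.comp P) (E P Q c)) := by
  induction c using Finsupp.induction_linear with
  | zero =>
    unfold tau
    rw [Finsupp.mapRange_zero, map_zero, map_zero, map_zero, kap_zero]
  | add f g hf hg =>
    unfold tau at *
    rw [Finsupp.mapRange_add (kap_add P Q m), map_add, hf, hg, map_add, map_add, kap_add]
  | single s a =>
    unfold tau
    rw [Finsupp.mapRange_single, jmap_single, E_single, jmap_single]
    have : rel (Q.comp P) (Sum.inr s) = (kIn P Q).ringHom (rel P s) := by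
      rw [kIn_ringHom_apply]
      rfl
    rw [this, kap_mul_rename]

theorem E_recon (c : σ →₀ (Q.comp P).toExtension.Ring) (T : Finset (ι' →₀ ℕ))
    (hT : ∀ s, (MvPolynomial.sumAlgEquiv A ι' ι (c s)).support ⊆ T) :
    E P Q c = ∑ m ∈ T, mono P Q m • (kIn P Q).relModMap (tau P Q m c) := by
  have h1 : c = ∑ m ∈ T, mono P Q m •
      Finsupp.mapRange (kIn P Q).ringHom (map_zero _) (tau P Q m c) := by
    ext s
    rw [Finsupp.finsetSum_apply]
    refine (recon (c s) T (hT s)).trans (Finset.sum_congr rfl fun m _ => ?_)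
    change _ = mono P Q m * (kIn P Q).ringHom (kap P Q m (c s))
    rw [kIn_ringHom_apply]
    exact mul_comm _ _
  conv_lhs => rw [h1]
  rw [map_sum]
  refine Finset.sum_congr rfl fun m _ => ?_
  rw [map_smul, kIn_relModMap_eq_E]

theorem step2 (c : σ →₀ (Q.comp P).toExtension.Ring) (hc : E P Q c ∈ relKer (Q.comp P)) :
    (⟨E P Q c, hc⟩ : relKer (Q.comp P)) ∈
      Submodule.span (Q.comp P).toExtension.Ring (Set.range (kIn P Q).relKerMap) := by
  classical
  let T : Finset (ι' →₀ ℕ) :=
    c.support.biUnion (fun s => (MvPolynomial.sumAlgEquiv A ι' ι (c s)).support)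
  have hT : ∀ s, (MvPolynomial.sumAlgEquiv A ι' ι (c s)).support ⊆ T := by
    intro s
    by_cases hs : s ∈ c.support
    · exact Finset.subset_biUnion_of_mem
        (fun s => (MvPolynomial.sumAlgEquiv A ι' ι (c s)).support) hs
    · rw [Finsupp.notMem_support_iff.1 hs]
      change (MvPolynomial.sumAlgEquiv A ι' ι (0 : MvPolynomial (ι' ⊕ ι) A)).support ⊆ T
      rw [map_zero, MvPolynomial.support_zero]
      exact Finset.empty_subset _
  have hτ : ∀ m, tau P Q m c ∈ relKer P := by
    intro m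
    change jmap P (tau P Q m c) = 0
    rw [jmap_tau, show jmap (Q.comp P) (E P Q c) = 0 from hc, kap_zero]
  have key : (⟨E P Q c, hc⟩ : relKer (Q.comp P)) =
      ∑ m ∈ T, mono P Q m • (kIn P Q).relKerMap ⟨tau P Q m c, hτ m⟩ := by
    apply Subtype.ext
    rw [Submodule.coe_sum]
    exact E_recon P Q c T hT
  rw [key]
  exact Submodule.sum_mem _ fun m _ =>
    Submodule.smul_mem _ _ (Submodule.subset_span ⟨_, rfl⟩)

section Ex2

variable (M : Type m) [AddCommGroup M] [Module C M] [Module B M] [IsScalarTower B C M]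
variable (ψ : L2 (Q.comp P) →ₗ[C] M) (hψ : (kIn P Q).pull2 M ψ = 0)

include hψ in
theorem Psi_kIn (q₁ : relKer P) : Psi (Q.comp P) ψ ((kIn P Q).relKerMap q₁) = 0 := by
  have := LinearMap.congr_fun hψ (Submodule.Quotient.mk ((1 : B) ⊗ₜ[P.toExtension.Ring] q₁))
  rw [PresHom.pull2_apply, PresHom.L2map_mk_tmul, map_one, LinearMap.zero_apply] at this
  exact this

include hψ in
theorem Psi_eq_zero_of_ker (q : relKer (Q.comp P))
    (hq : (kOut P Q).relModMap (q : relMod (Q.comp P)) = 0) : Psi (Q.comp P) ψ q = 0 := by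
  obtain ⟨y, hy, e, ⟨c, rfl⟩, hsum⟩ := Submodule.mem_sup.1 (step1 P Q _ hq)
  have hyK : y ∈ relKer (Q.comp P) := trivRel_le_relKer _ hy
  have hEc : E P Q c ∈ relKer (Q.comp P) := by
    have : E P Q c = (q : relMod (Q.comp P)) - y := by rw [← hsum, add_sub_cancel_left]
    rw [this]
    exact Submodule.sub_mem _ q.2 hyK
  have hq' : q = ⟨y, hyK⟩ + ⟨E P Q c, hEc⟩ := Subtype.ext hsum.symm
  rw [hq', Psi_add, Psi_triv _ _ _ hy, zero_add]
  have hspan := step2 P Q c hEc
  refine Submodule.span_induction (p := fun u _ => Psi (Q.comp P) ψ u = 0) ?_ ?_ ?_ ?_ hspan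
  · rintro _ ⟨q₁, rfl⟩
    exact Psi_kIn P Q M ψ hψ q₁
  · exact Psi_zero _ _
  · intro u v _ _ hu hv
    rw [Psi_add, hu, hv, add_zero]
  · intro r u _ hu
    rw [Psi_smul, hu, smul_zero]

include hψ in
theorem ex2 : ∃ χ, (kOut P Q).pull2 M χ = ψ := by
  choose l hl using relKer_lift P Q
  have spec : ∀ q : relKer (Q.comp P),
      Psi (Q.comp P) ψ (l ((kOut P Q).relKerMap q)) = Psi (Q.comp P) ψ q := by
    intro q
    rw [← sub_eq_zero, ← Psi_sub]
    apply Psi_eq_zero_of_ker P Q M ψ hψ
    change (kOut P Q).relModMap ((l ((kOut P Q).relKerMap q) : relMod (Q.comp P)) -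
      (q : relMod (Q.comp P))) = 0
    rw [map_sub, ← PresHom.relKerMap_coe, ← PresHom.relKerMap_coe, hl, sub_self]
  letI : Module Q.toExtension.Ring M := Module.compHom M (algebraMap Q.toExtension.Ring C)
  haveI : IsScalarTower Q.toExtension.Ring C M := IsScalarTower.of_compHom Q.toExtension.Ring C M
  let χ₀ : relKer Q →ₗ[Q.toExtension.Ring] M :=
    { toFun := fun q₃ => Psi (Q.comp P) ψ (l q₃)
      map_add' := fun a b => by
        have e : a + b = (kOut P Q).relKerMap (l a + l b) := by rw [map_add, hl, hl]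
        rw [e, spec, Psi_add]
      map_smul' := fun r₃ a => by
        obtain ⟨r, rfl⟩ := kOut_ringHom_surjective P Q r₃
        have e : (kOut P Q).ringHom r • a = (kOut P Q).relKerMap (r • l a) := by
          rw [LinearMap.map_smulₛₗ, hl]
        rw [e, spec, Psi_smul, RingHom.id_apply]
        change algebraMap (Q.comp P).toExtension.Ring C r • Psi (Q.comp P) ψ (l a) =
          algebraMap Q.toExtension.Ring C ((kOut P Q).ringHom r) • Psi (Q.comp P) ψ (l a)
        rw [(kOut P Q).algebraMap_ringHom r]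
        rfl }
  have hχ₀ : ∀ q₃, χ₀ q₃ = Psi (Q.comp P) ψ (l q₃) := fun _ => rfl
  let χt : C ⊗[Q.toExtension.Ring] relKer Q →ₗ[C] M := LinearMap.liftBaseChange C χ₀
  have hvan : LinearMap.range ((trivRelKer Q).subtype.baseChange C) ≤ LinearMap.ker χt := by
    rintro _ ⟨z, rfl⟩
    rw [LinearMap.mem_ker]
    induction z using TensorProduct.induction_on with
    | zero => simp
    | add x y hx hy => rw [map_add, map_add, hx, hy, add_zero]
    | tmul c w =>
      rw [LinearMap.baseChange_tmul, LinearMap.liftBaseChange_tmul, hχ₀]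
      obtain ⟨y, hy, hρ⟩ := trivRel_lift P Q _
        (w.2 : ((w : relKer Q) : relMod Q) ∈ trivRel Q)
      have e : ((trivRelKer Q).subtype w) =
          (kOut P Q).relKerMap ⟨y, trivRel_le_relKer _ hy⟩ := Subtype.ext hρ.symm
      rw [e, spec, Psi_triv _ _ _ hy, smul_zero]
  refine ⟨Submodule.liftQ _ χt hvan, ?_⟩
  refine LinearMap.ext fun z => ?_
  induction z using Submodule.Quotient.induction_on with
  | H z =>
    induction z using TensorProduct.induction_on with
    | zero => simp
    | add x y hx hy => rw [Submodule.Quotient.mk_add, map_add, map_add, hx, hy]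
    | tmul c q =>
      rw [PresHom.pull2_apply, PresHom.L2map_mk_tmul, psi_mk_tmul (Q.comp P) ψ c q]
      change χt (c ⊗ₜ (kOut P Q).relKerMap q) = _
      rw [LinearMap.liftBaseChange_tmul, hχ₀, spec]

end Ex2

theorem inj2 (M : Type m) [AddCommGroup M] [Module C M] : Injective ((kOut P Q).pull2 M) := by
  intro χ χ' e
  refine LinearMap.ext fun z => ?_
  obtain ⟨z', rfl⟩ := L2map_kOut_surjective P Q z
  exact LinearMap.congr_fun e z'

theorem zero2 (M : Type m) [AddCommGroup M] [Module C M] [Module B M] [IsScalarTower B C M]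
    (χ : L2 Q →ₗ[C] M) : (kIn P Q).pull2 M ((kOut P Q).pull2 M χ) = 0 := by
  refine LinearMap.ext fun z => ?_
  rw [PresHom.pull2_apply, PresHom.pull2_apply, L2map_kOut_kIn, map_zero, LinearMap.zero_apply]

theorem cochainExact (M : Type m) [AddCommGroup M] [Module C M] [Module B M]
    [IsScalarTower B C M] : CochainExact (kIn P Q) (kOut P Q) M where
  inj0 := inj0 P Q M
  inj1 := inj1 P Q M
  inj2 := inj2 P Q M
  zero0 := zero0 P Q M
  zero1 := zero1 P Q M
  zero2 := zero2 P Q M
  ex0 := ex0 P Q M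
  ex1 := ex1 P Q M
  ex2 := fun ψ hψ => ex2 P Q M ψ hψ
  surj0 := surj0 P Q M
  surj1 := surj1 P Q M

end Comp

end Groth.Agent.H28.CotNine
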