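import Groth.Agent.H28.CotNine.T2
import Groth.Agent.H28.CotNine.Comp3

/-!
# The nine-term sequence of the cotangent functors for `A → B → C` (canonical presentations)
-/

set_option autoImplicit false
universe u w m
open Function TensorProduct CotT

noncomputable section

namespace Groth.Agent.H28.CotNine

section Gen

variable {A B A' B' : Type u} {ι σ ι' σ' : Type w}
variable [CommRing A] [CommRing B] [Algebra A B] [CommRing A'] [CommRing B'] [Algebra A' B']
variable [Algebra A A'] [Algebra B B'] [Algebra A B'] [IsScalarTower A A' B'] [IsScalarTower A B B']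

/-- every morphism of generators underlies a morphism of presentations -/
theorem exists_presHom (P : Algebra.Presentation A B ι σ) (P' : Algebra.Presentation A' B' ι' σ')
    (hom : Algebra.Generators.Hom P.toGenerators P'.toGenerators) :
    ∃ h : PresHom P P', h.hom = hom := by
  have hv : ∀ s, ∃ v : relMod P', jmap P' v = hom.toExtensionHom.toRingHom (rel P s) := by
    intro s
    have : hom.toExtensionHom.toRingHom (rel P s) ∈ LinearMap.range (jmap P') := by
      rw [range_jmap]
      change algebraMap P'.toExtension.Ring B' _ = 0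
      rw [hom.toExtensionHom.algebraMap_toRingHom, algebraMap_rel, map_zero]
    exact this
  choose v hv using hv
  exact ⟨⟨hom, v, hv⟩, rfl⟩

variable (A' B') in
/-- the morphism from any presentation to the canonical presentation of the target -/
def toCanon (P : Algebra.Presentation A B ι σ) : PresHom P (canon A' B') where
  hom := Algebra.Generators.defaultHom _ _
  relVal s := Finsupp.single
    ⟨(Algebra.Generators.defaultHom P.toGenerators (canon A' B').toGenerators).toExtensionHom.toRingHom
        (rel P s), by
      have h1 := (Algebra.Generators.defaultHom P.toGenerators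
        (canon A' B').toGenerators).toExtensionHom.algebraMap_toRingHom (rel P s)
      rw [algebraMap_rel, map_zero] at h1
      exact h1⟩ 1
  jmap_relVal s := by
    rw [jmap_single, one_mul]
    rfl

end Gen

section Transport

variable {X Y Y' Z W : Type*}

theorem exact_transport_mid [Zero Z] (f : X → Y) (g : Y → Z) (e : Y → Y') (f' : X → Y')
    (g' : Y' → Z) (he : Injective e) (h1 : ∀ x, e (f x) = f' x) (h2 : ∀ y, g' (e y) = g y)
    (hex : Function.Exact f' g') : Function.Exact f g := by
  intro y
  constructor
  · intro hy
    have : g' (e y) = 0 := by rw [h2, hy]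
    obtain ⟨x, hx⟩ := (hex _).1 this
    exact ⟨x, he (by rw [h1, hx])⟩
  · rintro ⟨x, rfl⟩
    rw [← h2, h1]
    exact (hex _).2 ⟨x, rfl⟩

theorem exact_transport_left [Zero W] (g : Y → Z) (g' : Y' → Z) (e : Y → Y') (d : Z → W)
    (he : Surjective e) (h2 : ∀ y, g' (e y) = g y) (hex : Function.Exact g' d) :
    Function.Exact g d := by
  intro z
  constructor
  · intro hz
    obtain ⟨y', rfl⟩ := (hex z).1 hz
    obtain ⟨y, rfl⟩ := he y'
    exact ⟨y, (h2 y).symm⟩
  · rintro ⟨y, rfl⟩
    rw [← h2]
    exact (hex _).2 ⟨_, rfl⟩

theorem exact_transport_right [Zero Y] [Zero Y'] (d : W → X) (f : X → Y) (f' : X → Y')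
    (e : Y → Y') (he : Injective e) (he0 : e 0 = 0) (h1 : ∀ x, e (f x) = f' x)
    (hex : Function.Exact d f') : Function.Exact d f := by
  intro x
  constructor
  · intro hx
    apply (hex x).1
    rw [← h1, hx, he0]
  · intro hx
    apply he
    rw [h1, he0]
    exact (hex x).2 hx

end Transport

section Main

variable (A B C : Type u) [CommRing A] [CommRing B] [CommRing C] [Algebra A B] [Algebra B C]
  [Algebra A C] [IsScalarTower A B C]

/-- the comparison from the composite presentation to the canonical one -/
abbrev beta : PresHom ((canon B C).comp (canon A B)) (canon A C) :=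
  toCanon A C ((canon B C).comp (canon A B))

theorem ES (r : (canon A B).toExtension.Ring) :
    (beta A B C).ringHom ((kIn (canon A B) (canon B C)).ringHom r) =
      (canonHom A B A C).ringHom r := by
  rw [kIn_ringHom_apply]
  change (Algebra.Generators.defaultHom ((canon B C).comp (canon A B)).toGenerators
      (canon A C).toGenerators).toAlgHom (MvPolynomial.rename Sum.inr r) =
    (Algebra.Generators.defaultHom (canon A B).toGenerators (canon A C).toGenerators).toAlgHom r
  induction r using MvPolynomial.induction_on with
  | C a =>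
    rw [MvPolynomial.rename_C, Algebra.Generators.Hom.toAlgHom_C,
      Algebra.Generators.Hom.toAlgHom_C]
  | add p q hp hq => rw [map_add, map_add, map_add, hp, hq]
  | mul_X p b hp =>
    rw [map_mul, map_mul, map_mul, hp, MvPolynomial.rename_X,
      Algebra.Generators.Hom.toAlgHom_X, Algebra.Generators.Hom.toAlgHom_X]
    rfl

theorem strict (f : relMod (canon A B)) :
    (canonHom A B A C).relModMap f =
      (beta A B C).relModMap ((kIn (canon A B) (canon B C)).relModMap f) := by
  induction f using Finsupp.induction_linear with
  | zero => simp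
  | add f g hf hg => rw [map_add, map_add, map_add, hf, hg]
  | single s r =>
    rw [kIn_relModMap_single, PresHom.relModMap_single, PresHom.relModMap_single, ES]
    congr 1
    change Finsupp.single _ 1 = Finsupp.single _ 1
    congr 1
    apply Subtype.ext
    have : rel ((canon B C).comp (canon A B)) (Sum.inr s) =
        (kIn (canon A B) (canon B C)).ringHom (rel (canon A B) s) := by
      rw [kIn_ringHom_apply]
      rfl
    change (canonHom A B A C).ringHom (rel (canon A B) s) =
      (beta A B C).ringHom (rel ((canon B C).comp (canon A B)) (Sum.inr s))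
    rw [this, ES]

variable (M : Type u) [AddCommGroup M] [Module C M] [Module B M] [IsScalarTower B C M]

theorem nine_term :
    Function.Injective ((CotT.canonHom A C B C).T0pull M) ∧
    Function.Exact ((CotT.canonHom A C B C).T0pull M) ((CotT.canonHom A B A C).T0pull M) ∧
    Function.Exact ((CotT.canonHom A C B C).T1pull M) ((CotT.canonHom A B A C).T1pull M) ∧
    Function.Exact ((CotT.canonHom A C B C).T2pull M) ((CotT.canonHom A B A C).T2pull M) ∧
    ∃ (δ₀ : CotT.T0 (CotT.canon A B) M →+ CotT.T1 (CotT.canon B C) M)
      (δ₁ : CotT.T1 (CotT.canon A B) M →+ CotT.T2 (CotT.canon B C) M),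
      Function.Exact ((CotT.canonHom A B A C).T0pull M) δ₀ ∧
      Function.Exact δ₀ ((CotT.canonHom A C B C).T1pull M) ∧
      Function.Exact ((CotT.canonHom A B A C).T1pull M) δ₁ ∧
      Function.Exact δ₁ ((CotT.canonHom A C B C).T2pull M) := by
  have H := cochainExact (canon A B) (canon B C) M
  obtain ⟨γ, -⟩ := exists_presHom (canon A C) ((canon B C).comp (canon A B))
    (Algebra.Generators.defaultHom _ _)
  have F1_0 : ∀ x, (beta A B C).T0pull M ((canonHom A C B C).T0pull M x) =
      (kOut (canon A B) (canon B C)).T0pull M x :=
    fun x => T0_comp_eq (beta A B C) (canonHom A C B C) M (kOut (canon A B) (canon B C)) x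
  have F1_1 : ∀ x, (beta A B C).T1pull M ((canonHom A C B C).T1pull M x) =
      (kOut (canon A B) (canon B C)).T1pull M x :=
    fun x => T1_comp_eq (beta A B C) (canonHom A C B C) M (kOut (canon A B) (canon B C)) x
  have F1_2 : ∀ x, (beta A B C).T2pull M ((canonHom A C B C).T2pull M x) =
      (kOut (canon A B) (canon B C)).T2pull M x :=
    fun x => T2_comp_eq_sameC (beta A B C) (canonHom A C B C) (kOut (canon A B) (canon B C)) M x
  have F2_0 : ∀ x, (kIn (canon A B) (canon B C)).T0pull M ((beta A B C).T0pull M x) =
      (canonHom A B A C).T0pull M x :=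
    fun x => T0_comp_eq (kIn (canon A B) (canon B C)) (beta A B C) M (canonHom A B A C) x
  have F2_1 : ∀ x, (kIn (canon A B) (canon B C)).T1pull M ((beta A B C).T1pull M x) =
      (canonHom A B A C).T1pull M x :=
    fun x => T1_comp_eq (kIn (canon A B) (canon B C)) (beta A B C) M (canonHom A B A C) x
  have F2_2 : ∀ x, (kIn (canon A B) (canon B C)).T2pull M ((beta A B C).T2pull M x) =
      (canonHom A B A C).T2pull M x :=
    fun x => T2_comp_eq_strict (kIn (canon A B) (canon B C)) (beta A B C) M (canonHom A B A C)
      (strict A B C) x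
  have i0 : Injective ((beta A B C).T0pull M) :=
    Function.LeftInverse.injective (g := γ.T0pull M) (fun x => T0_retract γ (beta A B C) M x)
  have i1 : Injective ((beta A B C).T1pull M) :=
    Function.LeftInverse.injective (g := γ.T1pull M) (fun x => T1_retract γ (beta A B C) M x)
  have i2 : Injective ((beta A B C).T2pull M) :=
    Function.LeftInverse.injective (g := γ.T2pull M) (fun x => T2_retract γ (beta A B C) M x)
  have s0 : Surjective ((beta A B C).T0pull M) :=
    fun y => ⟨γ.T0pull M y, T0_retract (beta A B C) γ M y⟩
  have s1 : Surjective ((beta A B C).T1pull M) :=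
    fun y => ⟨γ.T1pull M y, T1_retract (beta A B C) γ M y⟩
  refine ⟨?_, ?_, ?_, ?_, δ₀ H, δ₁ H, ?_, ?_, ?_, ?_⟩
  · intro x y hxy
    apply T0_inj H
    rw [← F1_0, ← F1_0, hxy]
  · exact exact_transport_mid _ _ _ _ _ i0 F1_0 F2_0 (T0_exact H)
  · exact exact_transport_mid _ _ _ _ _ i1 F1_1 F2_1 (T1_exact H)
  · exact exact_transport_mid _ _ _ _ _ i2 F1_2 F2_2 (T2_exact H)
  · exact exact_transport_left _ _ _ _ s0 F2_0 (exact_T0_δ₀ H)
  · exact exact_transport_right _ _ _ _ i1 (map_zero _) F1_1 (exact_δ₀_T1 H)
  · exact exact_transport_left _ _ _ _ s1 F2_1 (exact_T1_δ₁ H)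
  · exact exact_transport_right _ _ _ _ i2 (map_zero _) F1_2 (exact_δ₁_T2 H)

end Main

end Groth.Agent.H28.CotNine
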