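import Groth.Agent.H28.CotNine.Basic
import Groth.Agent.H61.CotT2Htpy

/-!
# Homotopy invariance on `T²` for presentations of one algebra (over possibly different bases),
in terms of the Prelude's `PresHom` (reduction to helper61's `T2Hom`).
-/

set_option autoImplicit false
universe u w m
open Function TensorProduct CotT

noncomputable section

namespace Groth.Agent.H28.CotNine

open Groth.Agent.H61.CotT2

section SameC

variable {A A' C : Type u} [CommRing A] [CommRing A'] [CommRing C] [Algebra A C] [Algebra A' C]
  [Algebra A A'] [IsScalarTower A A' C]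
variable {ι σ ι' σ' : Type w}
variable {P : Algebra.Presentation A C ι σ} {P' : Algebra.Presentation A' C ι' σ'}

/-- a morphism of presentations of one algebra as a morphism of `T²`-data -/
def toT2Hom (h : PresHom P P') : T2Hom P P' where
  ringHom := h.ringHom
  algebraMap_ringHom x := h.algebraMap_ringHom x
  relModMap := h.relModMap
  jmap_relModMap := h.jmap_relModMap

theorem L2map_toT2Hom (h : PresHom P P') (z : L2 P) : (toT2Hom h).L2map z = h.L2map z := by
  induction z using Submodule.Quotient.induction_on with
  | H z =>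
    induction z using TensorProduct.induction_on with
    | zero => simp
    | add x y hx hy => rw [Submodule.Quotient.mk_add, map_add, map_add, hx, hy]
    | tmul b q => rfl

theorem T2pull_toT2Hom (h : PresHom P P') (M : Type m) [AddCommGroup M] [Module C M]
    (x : T2 P' M) : (toT2Hom h).T2pull M x = h.T2pull M x := by
  obtain ⟨e, rfl⟩ := Submodule.Quotient.mk_surjective _ x
  rw [T2Hom.T2pull_mk, T2pull_mk]
  congr 1

theorem ringHom_C (h : PresHom P P') (a : A) :
    h.ringHom (MvPolynomial.C a : MvPolynomial ι A) =
      (MvPolynomial.C (algebraMap A A' a) : MvPolynomial ι' A') :=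
  h.hom.toExtensionHom.toRingHom_algebraMap a

variable {A'' : Type u} [CommRing A''] [Algebra A'' C] [Algebra A' A''] [Algebra A A'']
  [IsScalarTower A' A'' C] [IsScalarTower A A'' C] [IsScalarTower A A' A'']
variable {ι'' σ'' : Type w} {P'' : Algebra.Presentation A'' C ι'' σ''}

theorem T2_comp_eq_T2Hom (h : PresHom P P') (h' : PresHom P' P'') (k₂ : T2Hom P P'')
    (hk : ∀ a : A, k₂.ringHom (MvPolynomial.C a : MvPolynomial ι A) =
      (MvPolynomial.C (algebraMap A A'' a) : MvPolynomial ι'' A''))
    (M : Type m) [AddCommGroup M] [Module C M] (x : T2 P'' M) :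
    h.T2pull M (h'.T2pull M x) = k₂.T2pull M x := by
  rw [← T2pull_toT2Hom, ← T2pull_toT2Hom]
  have e := T2pull_eq_of_agree M ((toT2Hom h').comp (toT2Hom h)) k₂ (fun a => by
    rw [hk]
    change h'.ringHom (h.ringHom (MvPolynomial.C a : MvPolynomial ι A)) = _
    rw [ringHom_C, ringHom_C, ← IsScalarTower.algebraMap_apply])
  rw [← e, T2pull_comp]
  rfl

theorem T2_comp_eq_sameC (h : PresHom P P') (h' : PresHom P' P'') (k : PresHom P P'')
    (M : Type m) [AddCommGroup M] [Module C M] (x : T2 P'' M) :
    h.T2pull M (h'.T2pull M x) = k.T2pull M x := by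
  rw [T2_comp_eq_T2Hom h h' (toT2Hom k) (fun a => ringHom_C k a) M x, T2pull_toT2Hom]

end SameC

section Same

variable {A C : Type u} [CommRing A] [CommRing C] [Algebra A C] {ι σ ι' σ' : Type w}
variable {P : Algebra.Presentation A C ι σ} {P' : Algebra.Presentation A C ι' σ'}
variable (h : PresHom P P') (h' : PresHom P' P) (M : Type m) [AddCommGroup M] [Module C M]

theorem T2_retract (x : T2 P M) : h.T2pull M (h'.T2pull M x) = x := by
  rw [T2_comp_eq_T2Hom h h' (T2Hom.id P) (fun a => rfl) M x, T2pull_id]
  rfl

end Same

end Groth.Agent.H28.CotNine
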